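import Mathlib
import Groth.Agent.Lib.Helper3.CA.CplMap
import Groth.Agent.Lib.Helper9.Misc.AdicLe

/-!
# Completed local structure of a node: successive approximation (helper8, S7924)

`A → B` local homomorphism of Noetherian local rings, bijective on residue fields,
`u v ∈ 𝔪_B`, `uv ∈ 𝔪_A B`, `𝔪_B = (u, v) + 𝔪_A B`.  We construct `x̂ ŷ ∈ B̂`, `α ∈ 𝔪_A Â` with
`x̂ ŷ = θ α`, `x̂ ≡ u`, `ŷ ≡ v` mod `𝔪_A B̂`.
-/

set_option autoImplicit false
universe u

namespace Groth.Agent.H8.NodeCpl

open IsLocalRing

section General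

theorem exists_seq_dep {T : Type*} (P : ℕ → T → Prop) (R : ℕ → T → T → Prop) (t0 : T)
    (h0 : P 0 t0) (hstep : ∀ k t, P k t → ∃ t', P (k + 1) t' ∧ R k t t') :
    ∃ s : ℕ → T, (∀ k, P k (s k)) ∧ ∀ k, R k (s k) (s (k + 1)) := by
  classical
  haveI : Nonempty T := ⟨t0⟩
  choose! nxt hnxt using hstep
  let s : ℕ → T := fun k => Nat.rec t0 (fun k t => nxt k t) k
  have hP : ∀ k, P k (s k) := by
    intro k
    induction k with
    | zero => exact h0
    | succ k ih => exact (hnxt k (s k) ih).1
  exact ⟨s, hP, fun k => (hnxt k (s k) (hP k)).2⟩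

theorem exists_limit {R : Type*} [CommRing R] (I : Ideal R) [IsPrecomplete I R] (f : ℕ → R)
    (hf : ∀ k, f (k + 1) - f k ∈ I ^ k) : ∃ L : R, ∀ k, L - f k ∈ I ^ k := by
  have hdiff : ∀ m n, m ≤ n → f n - f m ∈ I ^ m := by
    intro m n hmn
    induction n, hmn using Nat.le_induction with
    | base => simp
    | succ n hmn ih =>
      have : f (n + 1) - f m = (f (n + 1) - f n) + (f n - f m) := by ring
      rw [this]
      exact add_mem (Ideal.pow_le_pow_right hmn (hf n)) ih
  obtain ⟨L, hL⟩ := IsPrecomplete.prec' (I := I) f (fun {m n} hmn => by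
    rw [SModEq.sub_mem, smul_eq_mul, Ideal.mul_top, ← neg_sub]
    exact neg_mem (hdiff m n hmn))
  refine ⟨L, fun k => ?_⟩
  have h := hL k
  rw [SModEq.sub_mem, smul_eq_mul, Ideal.mul_top] at h
  rw [← neg_sub]
  exact neg_mem h

end General

variable (A B : Type u) [CommRing A] [IsLocalRing A] [IsNoetherianRing A]
  [CommRing B] [IsLocalRing B] [IsNoetherianRing B] [Algebra A B] [IsLocalHom (algebraMap A B)]

theorem map_le : (maximalIdeal A).map (algebraMap A B) ≤ maximalIdeal B :=
  ((IsLocalRing.local_hom_TFAE (algebraMap A B)).out 0 2).mp ‹IsLocalHom (algebraMap A B)›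

/-- the map of completions. -/
noncomputable def θ : AdicCompletion (maximalIdeal A) A →+* AdicCompletion (maximalIdeal B) B :=
  Groth.Agent.H3.CplMap.cplMap (algebraMap A B) (maximalIdeal A) (maximalIdeal B) (map_le A B)

theorem θ_of (a : A) : θ A B (algebraMap A (AdicCompletion (maximalIdeal A) A) a) =
    algebraMap A (AdicCompletion (maximalIdeal B) B) a := by
  rw [θ, Groth.Agent.H3.CplMap.cplMap_of]
  rfl

theorem IB_le : (maximalIdeal A).map (algebraMap A (AdicCompletion (maximalIdeal B) B)) ≤
    (maximalIdeal B).map (algebraMap B (AdicCompletion (maximalIdeal B) B)) := by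
  have h : algebraMap A (AdicCompletion (maximalIdeal B) B) =
      (algebraMap B (AdicCompletion (maximalIdeal B) B)).comp (algebraMap A B) := rfl
  rw [h, ← Ideal.map_map]
  exact Ideal.map_mono (map_le A B)

theorem map_θ : ((maximalIdeal A).map (algebraMap A (AdicCompletion (maximalIdeal A) A))).map
    (θ A B) = (maximalIdeal A).map (algebraMap A (AdicCompletion (maximalIdeal B) B)) := by
  rw [Ideal.map_map]
  have h : (θ A B).comp (algebraMap A (AdicCompletion (maximalIdeal A) A)) =
      algebraMap A (AdicCompletion (maximalIdeal B) B) := RingHom.ext (fun a => θ_of A B a)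
  rw [h]

theorem map_θ_pow (n : ℕ) :
    (((maximalIdeal A).map (algebraMap A (AdicCompletion (maximalIdeal A) A))) ^ n).map
    (θ A B) = ((maximalIdeal A).map (algebraMap A (AdicCompletion (maximalIdeal B) B))) ^ n := by
  rw [Ideal.map_pow, map_θ]

theorem isAdicComplete_IB :
    IsAdicComplete ((maximalIdeal A).map (algebraMap A (AdicCompletion (maximalIdeal B) B)))
      (AdicCompletion (maximalIdeal B) B) := by
  haveI := AdicCompletion.isAdicComplete_self (maximalIdeal B)
    (IsNoetherian.noetherian (maximalIdeal B))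
  exact Groth.Agent.H9.AdicLe.main _ _ (IB_le A B)
    (Ideal.FG.map (IsNoetherian.noetherian (maximalIdeal A)) _)

variable {A B}

theorem exists_sub_mem_Nhat
    (hres : Function.Surjective (IsLocalRing.ResidueField.map (algebraMap A B)))
    (b : AdicCompletion (maximalIdeal B) B) :
    ∃ e : A, b - algebraMap A (AdicCompletion (maximalIdeal B) B) e ∈
      (maximalIdeal B).map (algebraMap B (AdicCompletion (maximalIdeal B) B)) := by
  obtain ⟨abar, habar⟩ := hres (AdicCompletion.evalOneₐ (maximalIdeal B) b)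
  obtain ⟨e, rfl⟩ := IsLocalRing.residue_surjective abar
  refine ⟨e, ?_⟩
  rw [← AdicCompletion.ker_evalOneₐ_eq_map _ (IsNoetherian.noetherian (maximalIdeal B)),
    RingHom.mem_ker]
  show AdicCompletion.evalOneₐ (maximalIdeal B) (b - _) = 0
  rw [map_sub, sub_eq_zero, ← habar, IsLocalRing.ResidueField.map_residue]
  rfl

variable (u v : B)

theorem Nhat_eq
    (hgen : maximalIdeal B = Ideal.span {u, v} ⊔ (maximalIdeal A).map (algebraMap A B)) :
    (maximalIdeal B).map (algebraMap B (AdicCompletion (maximalIdeal B) B)) =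
      Ideal.span {algebraMap B (AdicCompletion (maximalIdeal B) B) u,
        algebraMap B (AdicCompletion (maximalIdeal B) B) v} ⊔
      (maximalIdeal A).map (algebraMap A (AdicCompletion (maximalIdeal B) B)) := by
  have h : Ideal.map (algebraMap B (AdicCompletion (maximalIdeal B) B)) (maximalIdeal B) =
      Ideal.map (algebraMap B (AdicCompletion (maximalIdeal B) B))
        (Ideal.span {u, v} ⊔ (maximalIdeal A).map (algebraMap A B)) :=
    congrArg (fun I => Ideal.map (algebraMap B (AdicCompletion (maximalIdeal B) B)) I) hgen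
  rw [h, Ideal.map_sup, Ideal.map_span, Set.image_pair, Ideal.map_map]
  rfl

variable {u v}

theorem exists_decomp
    (hres : Function.Surjective (IsLocalRing.ResidueField.map (algebraMap A B)))
    (hgen : maximalIdeal B = Ideal.span {u, v} ⊔ (maximalIdeal A).map (algebraMap A B))
    (x y : AdicCompletion (maximalIdeal B) B)
    (hx : x - algebraMap B (AdicCompletion (maximalIdeal B) B) u ∈
      (maximalIdeal A).map (algebraMap A (AdicCompletion (maximalIdeal B) B)))
    (hy : y - algebraMap B (AdicCompletion (maximalIdeal B) B) v ∈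
      (maximalIdeal A).map (algebraMap A (AdicCompletion (maximalIdeal B) B)))
    (b : AdicCompletion (maximalIdeal B) B) :
    ∃ (e : A) (p q : AdicCompletion (maximalIdeal B) B),
      b - (algebraMap A (AdicCompletion (maximalIdeal B) B) e + x * p + y * q) ∈
        (maximalIdeal A).map (algebraMap A (AdicCompletion (maximalIdeal B) B)) := by
  obtain ⟨e, he⟩ := exists_sub_mem_Nhat hres b
  rw [Nhat_eq u v hgen] at he
  obtain ⟨w, hw, z, hz, hwz⟩ := Submodule.mem_sup.mp he
  obtain ⟨p, q, hpq⟩ := Ideal.mem_span_pair.mp hw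
  refine ⟨e, p, q, ?_⟩
  have e1 : b - (algebraMap A (AdicCompletion (maximalIdeal B) B) e + x * p + y * q) =
      z - (x - algebraMap B (AdicCompletion (maximalIdeal B) B) u) * p -
        (y - algebraMap B (AdicCompletion (maximalIdeal B) B) v) * q := by
    have h1 : b = algebraMap A (AdicCompletion (maximalIdeal B) B) e + (w + z) := by
      rw [hwz]; ring
    rw [h1, ← hpq]
    ring
  rw [e1]
  exact sub_mem (sub_mem hz (Ideal.mul_mem_right _ _ hx)) (Ideal.mul_mem_right _ _ hy)

theorem exists_decomp_pow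
    (hres : Function.Surjective (IsLocalRing.ResidueField.map (algebraMap A B)))
    (hgen : maximalIdeal B = Ideal.span {u, v} ⊔ (maximalIdeal A).map (algebraMap A B))
    (x y : AdicCompletion (maximalIdeal B) B)
    (hx : x - algebraMap B (AdicCompletion (maximalIdeal B) B) u ∈
      (maximalIdeal A).map (algebraMap A (AdicCompletion (maximalIdeal B) B)))
    (hy : y - algebraMap B (AdicCompletion (maximalIdeal B) B) v ∈
      (maximalIdeal A).map (algebraMap A (AdicCompletion (maximalIdeal B) B)))
    (n : ℕ) (δ : AdicCompletion (maximalIdeal B) B)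
    (hδ : δ ∈ ((maximalIdeal A).map (algebraMap A (AdicCompletion (maximalIdeal B) B))) ^ n) :
    ∃ (a' : AdicCompletion (maximalIdeal A) A) (P Q : AdicCompletion (maximalIdeal B) B),
      a' ∈ ((maximalIdeal A).map (algebraMap A (AdicCompletion (maximalIdeal A) A))) ^ n ∧
      P ∈ ((maximalIdeal A).map (algebraMap A (AdicCompletion (maximalIdeal B) B))) ^ n ∧
      Q ∈ ((maximalIdeal A).map (algebraMap A (AdicCompletion (maximalIdeal B) B))) ^ n ∧
      δ - (θ A B a' + x * P + y * Q) ∈
        ((maximalIdeal A).map (algebraMap A (AdicCompletion (maximalIdeal B) B))) ^ (n + 1) := by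
  rw [← Ideal.map_pow] at hδ
  induction hδ using Submodule.span_induction with
  | mem d hd =>
    obtain ⟨c, hc, rfl⟩ := hd
    refine ⟨algebraMap A (AdicCompletion (maximalIdeal A) A) c, 0, 0, ?_, zero_mem _,
      zero_mem _, ?_⟩
    · rw [← Ideal.map_pow]
      exact Ideal.mem_map_of_mem _ hc
    · rw [θ_of, mul_zero, mul_zero, add_zero, add_zero, sub_self]
      exact zero_mem _
  | zero =>
    refine ⟨0, 0, 0, zero_mem _, zero_mem _, zero_mem _, ?_⟩
    rw [map_zero, mul_zero, mul_zero, add_zero, add_zero, sub_self]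
    exact zero_mem _
  | add d d' _ _ ih ih' =>
    obtain ⟨a1, P1, Q1, h1, h2, h3, h4⟩ := ih
    obtain ⟨a2, P2, Q2, k1, k2, k3, k4⟩ := ih'
    refine ⟨a1 + a2, P1 + P2, Q1 + Q2, add_mem h1 k1, add_mem h2 k2, add_mem h3 k3, ?_⟩
    have e1 : d + d' - (θ A B (a1 + a2) + x * (P1 + P2) + y * (Q1 + Q2)) =
        (d - (θ A B a1 + x * P1 + y * Q1)) + (d' - (θ A B a2 + x * P2 + y * Q2)) := by
      rw [map_add]; ring
    rw [e1]
    exact add_mem h4 k4
  | smul b d _ ih =>
    obtain ⟨a1, P1, Q1, h1, h2, h3, h4⟩ := ih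
    obtain ⟨e, p, q, hz⟩ := exists_decomp hres hgen x y hx hy b
    have hθa : θ A B a1 ∈
        ((maximalIdeal A).map (algebraMap A (AdicCompletion (maximalIdeal B) B))) ^ n := by
      rw [← map_θ_pow]
      exact Ideal.mem_map_of_mem _ h1
    refine ⟨algebraMap A (AdicCompletion (maximalIdeal A) A) e * a1, b * P1 + p * θ A B a1,
      b * Q1 + q * θ A B a1, Ideal.mul_mem_left _ _ h1,
      add_mem (Ideal.mul_mem_left _ _ h2) (Ideal.mul_mem_left _ _ hθa),
      add_mem (Ideal.mul_mem_left _ _ h3) (Ideal.mul_mem_left _ _ hθa), ?_⟩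
    have e1 : b • d - (θ A B (algebraMap A (AdicCompletion (maximalIdeal A) A) e * a1) +
        x * (b * P1 + p * θ A B a1) + y * (b * Q1 + q * θ A B a1)) =
        b * (d - (θ A B a1 + x * P1 + y * Q1)) +
          (b - (algebraMap A (AdicCompletion (maximalIdeal B) B) e + x * p + y * q)) *
            θ A B a1 := by
      rw [smul_eq_mul, map_mul, θ_of]; ring
    rw [e1]
    refine add_mem (Ideal.mul_mem_left _ _ h4) ?_
    rw [pow_succ']
    exact Ideal.mul_mem_mul hz hθa

theorem exists_step
    (hres : Function.Surjective (IsLocalRing.ResidueField.map (algebraMap A B)))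
    (hgen : maximalIdeal B = Ideal.span {u, v} ⊔ (maximalIdeal A).map (algebraMap A B))
    (n : ℕ) (hn : 1 ≤ n) (x y : AdicCompletion (maximalIdeal B) B)
    (a : AdicCompletion (maximalIdeal A) A)
    (hx : x - algebraMap B (AdicCompletion (maximalIdeal B) B) u ∈
      (maximalIdeal A).map (algebraMap A (AdicCompletion (maximalIdeal B) B)))
    (hy : y - algebraMap B (AdicCompletion (maximalIdeal B) B) v ∈
      (maximalIdeal A).map (algebraMap A (AdicCompletion (maximalIdeal B) B)))
    (hxy : x * y - θ A B a ∈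
      ((maximalIdeal A).map (algebraMap A (AdicCompletion (maximalIdeal B) B))) ^ n) :
    ∃ (x' y' : AdicCompletion (maximalIdeal B) B) (a' : AdicCompletion (maximalIdeal A) A),
      x' - x ∈ ((maximalIdeal A).map (algebraMap A (AdicCompletion (maximalIdeal B) B))) ^ n ∧
      y' - y ∈ ((maximalIdeal A).map (algebraMap A (AdicCompletion (maximalIdeal B) B))) ^ n ∧
      a' - a ∈ ((maximalIdeal A).map (algebraMap A (AdicCompletion (maximalIdeal A) A))) ^ n ∧
      x' * y' - θ A B a' ∈
        ((maximalIdeal A).map (algebraMap A (AdicCompletion (maximalIdeal B) B))) ^ (n + 1) := by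
  obtain ⟨a1, P, Q, h1, h2, h3, h4⟩ := exists_decomp_pow hres hgen x y hx hy n _ hxy
  refine ⟨x - Q, y - P, a + a1, ?_, ?_, ?_, ?_⟩
  · have : x - Q - x = -Q := by ring
    rw [this]; exact neg_mem h3
  · have : y - P - y = -P := by ring
    rw [this]; exact neg_mem h2
  · have : a + a1 - a = a1 := by ring
    rw [this]; exact h1
  · have e1 : (x - Q) * (y - P) - θ A B (a + a1) =
        (x * y - θ A B a - (θ A B a1 + x * P + y * Q)) + P * Q := by
      rw [map_add]; ring
    rw [e1]
    refine add_mem h4 ?_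
    have h5 : P * Q ∈
        ((maximalIdeal A).map (algebraMap A (AdicCompletion (maximalIdeal B) B))) ^ (n + n) := by
      rw [pow_add]; exact Ideal.mul_mem_mul h2 h3
    exact Ideal.pow_le_pow_right (by omega) h5

/-- The successive approximation: `x̂ ŷ = θ α`. -/
theorem exists_xy
    (hres : Function.Surjective (IsLocalRing.ResidueField.map (algebraMap A B)))
    (huv : u * v ∈ (IsLocalRing.maximalIdeal A).map (algebraMap A B))
    (hgen : maximalIdeal B = Ideal.span {u, v} ⊔ (maximalIdeal A).map (algebraMap A B)) :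
    ∃ (x y : AdicCompletion (maximalIdeal B) B) (α : AdicCompletion (maximalIdeal A) A),
      x - algebraMap B (AdicCompletion (maximalIdeal B) B) u ∈
        (maximalIdeal A).map (algebraMap A (AdicCompletion (maximalIdeal B) B)) ∧
      y - algebraMap B (AdicCompletion (maximalIdeal B) B) v ∈
        (maximalIdeal A).map (algebraMap A (AdicCompletion (maximalIdeal B) B)) ∧
      α ∈ (maximalIdeal A).map (algebraMap A (AdicCompletion (maximalIdeal A) A)) ∧
      x * y = θ A B α := by
  classical
  haveI hcB := isAdicComplete_IB A B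
  haveI hcA := AdicCompletion.isAdicComplete_self (maximalIdeal A)
    (IsNoetherian.noetherian (maximalIdeal A))
  -- the invariant and the relation
  let P : ℕ → (AdicCompletion (maximalIdeal B) B × AdicCompletion (maximalIdeal B) B ×
      AdicCompletion (maximalIdeal A) A) → Prop := fun k t =>
    t.1 - algebraMap B (AdicCompletion (maximalIdeal B) B) u ∈
        (maximalIdeal A).map (algebraMap A (AdicCompletion (maximalIdeal B) B)) ∧
    t.2.1 - algebraMap B (AdicCompletion (maximalIdeal B) B) v ∈
        (maximalIdeal A).map (algebraMap A (AdicCompletion (maximalIdeal B) B)) ∧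
    t.2.2 ∈ (maximalIdeal A).map (algebraMap A (AdicCompletion (maximalIdeal A) A)) ∧
    t.1 * t.2.1 - θ A B t.2.2 ∈
      ((maximalIdeal A).map (algebraMap A (AdicCompletion (maximalIdeal B) B))) ^ (k + 1)
  let R : ℕ → (AdicCompletion (maximalIdeal B) B × AdicCompletion (maximalIdeal B) B ×
      AdicCompletion (maximalIdeal A) A) → (AdicCompletion (maximalIdeal B) B ×
      AdicCompletion (maximalIdeal B) B × AdicCompletion (maximalIdeal A) A) → Prop :=
    fun k t t' =>
    t'.1 - t.1 ∈
      ((maximalIdeal A).map (algebraMap A (AdicCompletion (maximalIdeal B) B))) ^ (k + 1) ∧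
    t'.2.1 - t.2.1 ∈
      ((maximalIdeal A).map (algebraMap A (AdicCompletion (maximalIdeal B) B))) ^ (k + 1) ∧
    t'.2.2 - t.2.2 ∈
      ((maximalIdeal A).map (algebraMap A (AdicCompletion (maximalIdeal A) A))) ^ (k + 1)
  have h0 : P 0 (algebraMap B (AdicCompletion (maximalIdeal B) B) u,
      algebraMap B (AdicCompletion (maximalIdeal B) B) v, 0) := by
    refine ⟨by simp, by simp, zero_mem _, ?_⟩
    show algebraMap B (AdicCompletion (maximalIdeal B) B) u *
      algebraMap B (AdicCompletion (maximalIdeal B) B) v - θ A B 0 ∈ _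
    rw [map_zero, sub_zero, ← map_mul, zero_add, pow_one]
    have h : algebraMap A (AdicCompletion (maximalIdeal B) B) =
        (algebraMap B (AdicCompletion (maximalIdeal B) B)).comp (algebraMap A B) := rfl
    rw [h, ← Ideal.map_map]
    exact Ideal.mem_map_of_mem _ huv
  have hstep : ∀ k t, P k t → ∃ t', P (k + 1) t' ∧ R k t t' := by
    rintro k ⟨x, y, a⟩ ⟨hx, hy, ha, hxy⟩
    obtain ⟨x', y', a', h1, h2, h3, h4⟩ :=
      exists_step hres hgen (k + 1) (by omega) x y a hx hy hxy
    have hle : ((maximalIdeal A).map (algebraMap A (AdicCompletion (maximalIdeal B) B))) ^ (k + 1)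
        ≤ (maximalIdeal A).map (algebraMap A (AdicCompletion (maximalIdeal B) B)) :=
      Ideal.pow_le_self (by omega)
    have hle' : ((maximalIdeal A).map (algebraMap A (AdicCompletion (maximalIdeal A) A))) ^ (k + 1)
        ≤ (maximalIdeal A).map (algebraMap A (AdicCompletion (maximalIdeal A) A)) :=
      Ideal.pow_le_self (by omega)
    refine ⟨(x', y', a'), ⟨?_, ?_, ?_, h4⟩, h1, h2, h3⟩
    · have : x' - algebraMap B (AdicCompletion (maximalIdeal B) B) u =
          (x' - x) + (x - algebraMap B (AdicCompletion (maximalIdeal B) B) u) := by ring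
      show x' - _ ∈ _
      rw [this]; exact add_mem (hle h1) hx
    · have : y' - algebraMap B (AdicCompletion (maximalIdeal B) B) v =
          (y' - y) + (y - algebraMap B (AdicCompletion (maximalIdeal B) B) v) := by ring
      show y' - _ ∈ _
      rw [this]; exact add_mem (hle h2) hy
    · have : a' = (a' - a) + a := by ring
      show a' ∈ _
      rw [this]; exact add_mem (hle' h3) ha
  obtain ⟨s, hsP, hsR⟩ := exists_seq_dep P R _ h0 hstep
  obtain ⟨xh, hxh⟩ := exists_limit
    ((maximalIdeal A).map (algebraMap A (AdicCompletion (maximalIdeal B) B)))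
    (fun k => (s k).1) (fun k => Ideal.pow_le_pow_right (Nat.le_succ k) (hsR k).1)
  obtain ⟨yh, hyh⟩ := exists_limit
    ((maximalIdeal A).map (algebraMap A (AdicCompletion (maximalIdeal B) B)))
    (fun k => (s k).2.1) (fun k => Ideal.pow_le_pow_right (Nat.le_succ k) (hsR k).2.1)
  obtain ⟨α, hα⟩ := exists_limit
    ((maximalIdeal A).map (algebraMap A (AdicCompletion (maximalIdeal A) A)))
    (fun k => (s k).2.2) (fun k => Ideal.pow_le_pow_right (Nat.le_succ k) (hsR k).2.2)
  refine ⟨xh, yh, α, ?_, ?_, ?_, ?_⟩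
  · have h1 := hxh 1
    rw [pow_one] at h1
    have : xh - algebraMap B (AdicCompletion (maximalIdeal B) B) u =
        (xh - (s 1).1) + ((s 1).1 - algebraMap B (AdicCompletion (maximalIdeal B) B) u) := by ring
    rw [this]; exact add_mem h1 (hsP 1).1
  · have h1 := hyh 1
    rw [pow_one] at h1
    have : yh - algebraMap B (AdicCompletion (maximalIdeal B) B) v =
        (yh - (s 1).2.1) + ((s 1).2.1 - algebraMap B (AdicCompletion (maximalIdeal B) B) v) := by
      ring
    rw [this]; exact add_mem h1 (hsP 1).2.1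
  · have h1 := hα 1
    rw [pow_one] at h1
    have : α = (α - (s 1).2.2) + (s 1).2.2 := by ring
    rw [this]; exact add_mem h1 (hsP 1).2.2.1
  · rw [← sub_eq_zero]
    apply IsHausdorff.haus' (I := (maximalIdeal A).map
      (algebraMap A (AdicCompletion (maximalIdeal B) B)))
    intro k
    rw [SModEq.zero, smul_eq_mul, Ideal.mul_top]
    have e1 : xh * yh - θ A B α = (xh - (s k).1) * yh + (s k).1 * (yh - (s k).2.1) +
        ((s k).1 * (s k).2.1 - θ A B (s k).2.2) - θ A B (α - (s k).2.2) := by
      rw [map_sub]; ring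
    rw [e1]
    refine sub_mem (add_mem (add_mem (Ideal.mul_mem_right _ _ (hxh k))
      (Ideal.mul_mem_left _ _ (hyh k)))
      (Ideal.pow_le_pow_right (Nat.le_succ k) (hsP k).2.2.2)) ?_
    rw [← map_θ_pow]
    exact Ideal.mem_map_of_mem _ (hα k)

end Groth.Agent.H8.NodeCpl
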