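import Mathlib
import Groth.Agent.Lib.Helper8.NodeCpl.Approx
import Groth.Agent.Lib.Helper8.RegSecPS.Inj
import Groth.Agent.Lib.Helper5.CA.PSExt
import Groth.Agent.Lib.Helper5.FSm.PSComplete

/-!
# S7924: surjection from `Â[[x,y]]/(xy - α)` onto `B̂` (helper8)
-/

set_option autoImplicit false
universe u

namespace Groth.Agent.H8.NodeCpl

open IsLocalRing MvPowerSeries

variable {A B : Type u} [CommRing A] [IsLocalRing A] [IsNoetherianRing A]
  [CommRing B] [IsLocalRing B] [IsNoetherianRing B] [Algebra A B] [IsLocalHom (algebraMap A B)]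

/-- Given `x̂ ŷ = θ α` as produced by `exists_xy`, the induced surjection. -/
theorem exists_surj (u v : B)
    (hres : Function.Surjective (IsLocalRing.ResidueField.map (algebraMap A B)))
    (hgen : maximalIdeal B = Ideal.span {u, v} ⊔ (maximalIdeal A).map (algebraMap A B))
    (x y : AdicCompletion (maximalIdeal B) B) (α : AdicCompletion (maximalIdeal A) A)
    (hx : x - algebraMap B (AdicCompletion (maximalIdeal B) B) u ∈
        (maximalIdeal A).map (algebraMap A (AdicCompletion (maximalIdeal B) B)))
    (hy : y - algebraMap B (AdicCompletion (maximalIdeal B) B) v ∈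
        (maximalIdeal A).map (algebraMap A (AdicCompletion (maximalIdeal B) B)))
    (hxy : x * y = θ A B α) :
    ∃ (ψ : (MvPowerSeries (Fin 2) (AdicCompletion (IsLocalRing.maximalIdeal A) A) ⧸ Ideal.span
          {(MvPowerSeries.X 0 * MvPowerSeries.X 1 -
            MvPowerSeries.C α :
              MvPowerSeries (Fin 2) (AdicCompletion (IsLocalRing.maximalIdeal A) A))}) →ₐ[A]
        AdicCompletion (IsLocalRing.maximalIdeal B) B),
      Function.Surjective ψ ∧
        ψ (Ideal.Quotient.mk _ (MvPowerSeries.X 0)) = x ∧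
        ψ (Ideal.Quotient.mk _ (MvPowerSeries.X 1)) = y := by
  classical
  haveI hcB := AdicCompletion.isAdicComplete_self (maximalIdeal B)
    (IsNoetherian.noetherian (maximalIdeal B))
  haveI hcA := AdicCompletion.isAdicComplete_self (maximalIdeal A)
    (IsNoetherian.noetherian (maximalIdeal A))
  letI : Algebra (AdicCompletion (maximalIdeal A) A) (AdicCompletion (maximalIdeal B) B) :=
    (θ A B).toAlgebra
  have hN := Nhat_eq (A := A) u v hgen
  have hxN : x ∈ (maximalIdeal B).map (algebraMap B (AdicCompletion (maximalIdeal B) B)) := by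
    have : x = (x - algebraMap B (AdicCompletion (maximalIdeal B) B) u) +
        algebraMap B (AdicCompletion (maximalIdeal B) B) u := by ring
    rw [this]
    refine add_mem (IB_le A B hx) (Ideal.mem_map_of_mem _ ?_)
    rw [hgen]
    exact Ideal.mem_sup_left (Ideal.subset_span (by simp))
  have hyN : y ∈ (maximalIdeal B).map (algebraMap B (AdicCompletion (maximalIdeal B) B)) := by
    have : y = (y - algebraMap B (AdicCompletion (maximalIdeal B) B) v) +
        algebraMap B (AdicCompletion (maximalIdeal B) B) v := by ring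
    rw [this]
    refine add_mem (IB_le A B hy) (Ideal.mem_map_of_mem _ ?_)
    rw [hgen]
    exact Ideal.mem_sup_left (Ideal.subset_span (by simp))
  obtain ⟨Ψ, hΨX⟩ := Groth.Agent.H5.CA.exists_algHom_mvPowerSeries' (σ := Fin 2)
    (AdicCompletion (maximalIdeal A) A) (AdicCompletion (maximalIdeal B) B)
    ((maximalIdeal B).map (algebraMap B (AdicCompletion (maximalIdeal B) B)))
    (fun i => if i = 0 then x else y) (fun i => by
      by_cases hi : i = 0
      · simp only [hi, if_true]; exact hxN
      · simp only [hi, if_false]; exact hyN)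
  have hΨ0 : Ψ (X 0) = x := by rw [hΨX]; simp
  have hΨ1 : Ψ (X 1) = y := by rw [hΨX]; simp
  have hΨC : ∀ a : AdicCompletion (maximalIdeal A) A, Ψ (C a) = θ A B a := fun a => by
    rw [Groth.Agent.H8.RegSecPS.algHom_C]
    rfl
  have hker : Ψ (X 0 * X 1 - C α) = 0 := by
    rw [map_sub, map_mul, hΨ0, hΨ1, hΨC, hxy, sub_self]
  let ψ0 : (MvPowerSeries (Fin 2) (AdicCompletion (maximalIdeal A) A) ⧸ Ideal.span
      {(X 0 * X 1 - C α : MvPowerSeries (Fin 2) (AdicCompletion (maximalIdeal A) A))}) →+*
      AdicCompletion (maximalIdeal B) B :=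
    Ideal.Quotient.lift _ Ψ.toRingHom (fun z hz => by
      rw [Ideal.mem_span_singleton] at hz
      obtain ⟨w, rfl⟩ := hz
      show Ψ (_ * w) = 0
      rw [map_mul, hker, zero_mul])
  have hψ0 : ∀ p, ψ0 (Ideal.Quotient.mk _ p) = Ψ p := fun p => rfl
  let ψ : (MvPowerSeries (Fin 2) (AdicCompletion (maximalIdeal A) A) ⧸ Ideal.span
      {(X 0 * X 1 - C α : MvPowerSeries (Fin 2) (AdicCompletion (maximalIdeal A) A))}) →ₐ[A]
      AdicCompletion (maximalIdeal B) B :=
    { ψ0 with
      commutes' := fun a => by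
        show ψ0 (Ideal.Quotient.mk _ (algebraMap A (MvPowerSeries (Fin 2)
          (AdicCompletion (maximalIdeal A) A)) a)) = _
        rw [hψ0, MvPowerSeries.algebraMap_apply, hΨC, θ_of] }
  have hψ : ∀ p, ψ (Ideal.Quotient.mk _ p) = Ψ p := fun p => rfl
  -- surjectivity of Ψ
  have hI : (Groth.Agent.H5.FSm.psIdeal
      ((maximalIdeal A).map (algebraMap A (AdicCompletion (maximalIdeal A) A))) 2).map
      Ψ.toRingHom = (maximalIdeal B).map (algebraMap B (AdicCompletion (maximalIdeal B) B)) := by
    apply le_antisymm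
    · rw [Ideal.map_le_iff_le_comap, Groth.Agent.H5.FSm.psIdeal, sup_le_iff]
      constructor
      · rw [Ideal.map_le_iff_le_comap]
        intro a ha
        rw [Ideal.mem_comap, Ideal.mem_comap]
        show Ψ (C a) ∈ _
        rw [hΨC]
        apply IB_le A B
        rw [← map_θ]
        exact Ideal.mem_map_of_mem _ ha
      · rw [Ideal.span_le]
        rintro _ ⟨i, rfl⟩
        rw [SetLike.mem_coe, Ideal.mem_comap]
        show Ψ (X i) ∈ _
        rw [hΨX]
        by_cases hi : i = 0
        · simp only [hi, if_true]; exact hxN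
        · simp only [hi, if_false]; exact hyN
    · have hIle : (maximalIdeal A).map (algebraMap A (AdicCompletion (maximalIdeal B) B)) ≤
          (Groth.Agent.H5.FSm.psIdeal
            ((maximalIdeal A).map (algebraMap A (AdicCompletion (maximalIdeal A) A))) 2).map
            Ψ.toRingHom := by
        rw [← map_θ, Ideal.map_le_iff_le_comap]
        intro a ha
        rw [Ideal.mem_comap, ← hΨC]
        exact Ideal.mem_map_of_mem Ψ.toRingHom
          (Ideal.mem_sup_left (Ideal.mem_map_of_mem _ ha))
      have hX : ∀ i : Fin 2, Ψ (X i) ∈ (Groth.Agent.H5.FSm.psIdeal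
            ((maximalIdeal A).map (algebraMap A (AdicCompletion (maximalIdeal A) A))) 2).map
            Ψ.toRingHom := fun i =>
        Ideal.mem_map_of_mem Ψ.toRingHom
          (Ideal.mem_sup_right (Ideal.subset_span ⟨i, rfl⟩))
      rw [hN, sup_le_iff]
      refine ⟨?_, hIle⟩
      rw [Ideal.span_le]
      intro z hz
      rcases hz with rfl | rfl
      · have : algebraMap B (AdicCompletion (maximalIdeal B) B) u =
            x - (x - algebraMap B (AdicCompletion (maximalIdeal B) B) u) := by ring
        rw [SetLike.mem_coe, this]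
        exact sub_mem (hΨ0 ▸ hX 0) (hIle hx)
      · have : algebraMap B (AdicCompletion (maximalIdeal B) B) v =
            y - (y - algebraMap B (AdicCompletion (maximalIdeal B) B) v) := by ring
        rw [SetLike.mem_coe, this]
        exact sub_mem (hΨ1 ▸ hX 1) (hIle hy)
  have hΨsurj : Function.Surjective Ψ := by
    haveI : IsHausdorff ((Groth.Agent.H5.FSm.psIdeal
        ((maximalIdeal A).map (algebraMap A (AdicCompletion (maximalIdeal A) A))) 2).map
        Ψ.toRingHom) (AdicCompletion (maximalIdeal B) B) := by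
      rw [hI]
      infer_instance
    refine surjective_of_mk_map_comp_surjective
      (I := Groth.Agent.H5.FSm.psIdeal
        ((maximalIdeal A).map (algebraMap A (AdicCompletion (maximalIdeal A) A))) 2)
      Ψ.toRingHom ?_
    intro z
    obtain ⟨z', rfl⟩ := Ideal.Quotient.mk_surjective z
    obtain ⟨e, he⟩ := exists_sub_mem_Nhat hres z'
    refine ⟨C (algebraMap A (AdicCompletion (maximalIdeal A) A) e), ?_⟩
    show Ideal.Quotient.mk _ (Ψ (C (algebraMap A (AdicCompletion (maximalIdeal A) A) e))) =
      Ideal.Quotient.mk _ z'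
    rw [Ideal.Quotient.eq, hI, hΨC, θ_of, ← neg_sub]
    exact neg_mem he
  refine ⟨ψ, ?_, ?_, ?_⟩
  · intro z
    obtain ⟨p, rfl⟩ := hΨsurj z
    exact ⟨Ideal.Quotient.mk _ p, hψ p⟩
  · rw [hψ, hΨ0]
  · rw [hψ, hΨ1]

/-- **S7924**. -/
theorem main (A B : Type u) [CommRing A] [IsLocalRing A] [IsNoetherianRing A]
    [CommRing B] [IsLocalRing B] [IsNoetherianRing B] [Algebra A B] [IsLocalHom (algebraMap A B)]
    (hres : Function.Bijective (IsLocalRing.ResidueField.map (algebraMap A B)))
    (u v : B) (hu : u ∈ IsLocalRing.maximalIdeal B) (hv : v ∈ IsLocalRing.maximalIdeal B)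
    (huv : u * v ∈ (IsLocalRing.maximalIdeal A).map (algebraMap A B))
    (hgen : IsLocalRing.maximalIdeal B = Ideal.span {u, v} ⊔ (IsLocalRing.maximalIdeal A).map (algebraMap A B)) :
    ∃ (α : AdicCompletion (IsLocalRing.maximalIdeal A) A)
      (_ : α ∈ (IsLocalRing.maximalIdeal A).map (algebraMap A (AdicCompletion (IsLocalRing.maximalIdeal A) A)))
      (ψ : (MvPowerSeries (Fin 2) (AdicCompletion (IsLocalRing.maximalIdeal A) A) ⧸ Ideal.span
          {(MvPowerSeries.X 0 * MvPowerSeries.X 1 -
            MvPowerSeries.C α :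
              MvPowerSeries (Fin 2) (AdicCompletion (IsLocalRing.maximalIdeal A) A))}) →ₐ[A]
        AdicCompletion (IsLocalRing.maximalIdeal B) B),
      Function.Surjective ψ ∧
        ψ (Ideal.Quotient.mk _ (MvPowerSeries.X 0)) -
            algebraMap B (AdicCompletion (IsLocalRing.maximalIdeal B) B) u ∈
          (IsLocalRing.maximalIdeal A).map (algebraMap A (AdicCompletion (IsLocalRing.maximalIdeal B) B)) ∧
        ψ (Ideal.Quotient.mk _ (MvPowerSeries.X 1)) -
            algebraMap B (AdicCompletion (IsLocalRing.maximalIdeal B) B) v ∈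
          (IsLocalRing.maximalIdeal A).map (algebraMap A (AdicCompletion (IsLocalRing.maximalIdeal B) B)) := by
  obtain ⟨x, y, α, hx, hy, hα, hxy⟩ := exists_xy hres.2 huv hgen
  obtain ⟨ψ, hs, h0, h1⟩ := exists_surj u v hres.2 hgen x y α hx hy hxy
  refine ⟨α, hα, ψ, hs, ?_, ?_⟩
  · rw [h0]; exact hx
  · rw [h1]; exact hy

end Groth.Agent.H8.NodeCpl
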