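import Mathlib
import Groth.Agent.Lib.Helper8.NodeCpl.Surj
import Groth.Agent.S0543

/-!
# S7925: `Â[[x,y]]/(xy - α) ≅ B̂` for a flat family with nodal closed fibre (helper8)
-/

set_option autoImplicit false
universe u

namespace Groth.Agent.H8.NodeCpl

open IsLocalRing MvPowerSeries

section General

theorem injective_of_surjective_endo {R : Type*} [CommRing R] [IsNoetherianRing R] (φ : R →+* R)
    (hφ : Function.Surjective φ) : Function.Injective φ := by
  have hmono : Monotone (fun n : ℕ => RingHom.ker (φ ^ n)) := by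
    intro m n hmn x hx
    obtain ⟨k, rfl⟩ := Nat.exists_eq_add_of_le hmn
    rw [RingHom.mem_ker] at hx
    show x ∈ RingHom.ker (φ ^ (m + k))
    rw [RingHom.mem_ker, add_comm, pow_add, RingHom.mul_def, RingHom.comp_apply, hx, map_zero]
  obtain ⟨n, hn⟩ := monotone_stabilizes_iff_noetherian.mpr (inferInstance : IsNoetherian R R)
    ⟨_, hmono⟩
  have hsurj : Function.Surjective (φ ^ n) := by
    rw [RingHom.coe_pow]
    exact hφ.iterate n
  rw [injective_iff_map_eq_zero]
  intro x hx
  obtain ⟨y, rfl⟩ := hsurj x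
  have h1 : y ∈ RingHom.ker (φ ^ (n + 1)) := by
    rw [RingHom.mem_ker, pow_succ', RingHom.mul_def, RingHom.comp_apply]
    exact hx
  have h2 : RingHom.ker (φ ^ n) = RingHom.ker (φ ^ (n + 1)) := hn (n + 1) (Nat.le_succ n)
  rw [← h2] at h1
  exact (RingHom.mem_ker).mp h1

theorem mvPowerSeries_map_surjective {σ R S : Type*} [CommRing R] [CommRing S] (r : R →+* S)
    (hr : Function.Surjective r) : Function.Surjective (MvPowerSeries.map (σ := σ) r) := by
  intro q
  refine ⟨fun d => Function.surjInv hr (coeff d q), ?_⟩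
  ext d
  rw [coeff_map]
  exact Function.surjInv_eq hr _

theorem ker_inf_le_mul {A N B : Type*} [CommRing A] [CommRing N] [Algebra A N] [CommRing B]
    [Algebra A B] [Module.Flat A B] (ψ : N →ₐ[A] B) (hsurj : Function.Surjective ψ) {s : ℕ}
    (a : Fin s → A) :
    RingHom.ker ψ.toRingHom ⊓ (Ideal.span (Set.range a)).map (algebraMap A N) ≤
      (Ideal.span (Set.range a)).map (algebraMap A N) * RingHom.ker ψ.toRingHom := by
  classical
  rintro z ⟨hzK, hzm⟩
  rw [SetLike.mem_coe, Ideal.map_span, ← Set.range_comp] at hzm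
  obtain ⟨n, hn⟩ := Ideal.mem_span_range_iff_exists_fun.mp hzm
  have hrel : ∑ j, a j • ψ (n j) = 0 := by
    have hz0 : ψ z = 0 := hzK
    rw [← hz0, ← hn, map_sum]
    refine Finset.sum_congr rfl (fun j _ => ?_)
    rw [map_mul, Function.comp_apply, AlgHom.commutes, Algebra.smul_def, mul_comm]
  obtain ⟨k', c, y, hy1, hy2⟩ :=
    Module.Flat.isTrivialRelation_of_sum_smul_eq_zero (R := A) (M := B) hrel
  choose t ht using fun l => hsurj (y l)
  have hk : ∀ j, n j - ∑ l, c j l • t l ∈ RingHom.ker ψ.toRingHom := by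
    intro j
    rw [RingHom.mem_ker]
    show ψ (n j - ∑ l, c j l • t l) = 0
    have hy1j : ψ (n j) = ∑ l, c j l • y l := hy1 j
    rw [map_sub, map_sum, hy1j, sub_eq_zero]
    refine Finset.sum_congr rfl (fun l _ => ?_)
    rw [map_smul, ht]
  have hz : z = ∑ j, algebraMap A N (a j) * (n j - ∑ l, c j l • t l) := by
    have h0 : ∑ j, algebraMap A N (a j) * ∑ l, c j l • t l = 0 := by
      simp only [Finset.mul_sum]
      rw [Finset.sum_comm]
      refine Finset.sum_eq_zero (fun l _ => ?_)
      have e : ∑ j, algebraMap A N (a j) * (c j l • t l) = (∑ j, a j * c j l) • t l := by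
        rw [Finset.sum_smul]
        refine Finset.sum_congr rfl (fun j _ => ?_)
        rw [Algebra.smul_def, Algebra.smul_def, map_mul, mul_assoc]
      rw [e, hy2 l, zero_smul]
    simp only [mul_sub, Finset.sum_sub_distrib]
    rw [h0, sub_zero, ← hn]
    refine Finset.sum_congr rfl (fun j _ => ?_)
    rw [Function.comp_apply, mul_comm]
  rw [hz]
  exact Ideal.sum_mem _ (fun j _ => Ideal.mul_mem_mul
    (Ideal.mem_map_of_mem _ (Ideal.subset_span ⟨j, rfl⟩)) (hk j))

end General

variable {A B : Type u} [CommRing A] [IsLocalRing A] [IsNoetherianRing A]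
  [CommRing B] [IsLocalRing B] [IsNoetherianRing B] [Algebra A B] [IsLocalHom (algebraMap A B)]

variable (A) in
/-- the residue map of the completion. -/
noncomputable def rmap : AdicCompletion (maximalIdeal A) A →+* ResidueField A :=
  (AdicCompletion.evalOneₐ (maximalIdeal A)).toRingHom

theorem ker_rmap : RingHom.ker (rmap A) =
    (maximalIdeal A).map (algebraMap A (AdicCompletion (maximalIdeal A) A)) :=
  AdicCompletion.ker_evalOneₐ_eq_map _ (IsNoetherian.noetherian (maximalIdeal A))

theorem rmap_surjective : Function.Surjective (rmap A) :=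
  AdicCompletion.evalOneₐ_surjective _

variable (A B) in
/-- the map from the completion to the completion of the closed fibre. -/
noncomputable def ρ : AdicCompletion (maximalIdeal B) B →+*
    AdicCompletion ((maximalIdeal B).map (Ideal.Quotient.mk
      ((maximalIdeal A).map (algebraMap A B)))) (B ⧸ (maximalIdeal A).map (algebraMap A B)) :=
  Groth.Agent.H3.CplMap.cplMap (Ideal.Quotient.mk ((maximalIdeal A).map (algebraMap A B)))
    (maximalIdeal B) ((maximalIdeal B).map (Ideal.Quotient.mk
      ((maximalIdeal A).map (algebraMap A B)))) le_rfl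

theorem ρ_of (b : B) : ρ A B (algebraMap B (AdicCompletion (maximalIdeal B) B) b) =
    algebraMap (B ⧸ (maximalIdeal A).map (algebraMap A B)) _
      (Ideal.Quotient.mk ((maximalIdeal A).map (algebraMap A B)) b) :=
  Groth.Agent.H3.CplMap.cplMap_of _ _ _ _ b

theorem ρ_algebraMap (a : A) (ha : a ∈ maximalIdeal A) :
    ρ A B (algebraMap A (AdicCompletion (maximalIdeal B) B) a) = 0 := by
  have h : algebraMap A (AdicCompletion (maximalIdeal B) B) a =
      algebraMap B (AdicCompletion (maximalIdeal B) B) (algebraMap A B a) := rfl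
  rw [h, ρ_of, Ideal.Quotient.eq_zero_iff_mem.mpr (Ideal.mem_map_of_mem _ ha), map_zero]

theorem ρ_surjective : Function.Surjective (ρ A B) := by
  have fgB : (maximalIdeal B).FG := IsNoetherian.noetherian _
  haveI := AdicCompletion.isAdicComplete_self (maximalIdeal B) fgB
  have hfgF : ((maximalIdeal B).map (Ideal.Quotient.mk
      ((maximalIdeal A).map (algebraMap A B)))).FG := Ideal.FG.map fgB _
  haveI := AdicCompletion.isAdicComplete_self _ hfgF
  have hmap : ((maximalIdeal B).map (algebraMap B (AdicCompletion (maximalIdeal B) B))).map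
      (ρ A B) = ((maximalIdeal B).map (Ideal.Quotient.mk
        ((maximalIdeal A).map (algebraMap A B)))).map (algebraMap _ _) := by
    rw [Ideal.map_map, Ideal.map_map]
    have h : (ρ A B).comp (algebraMap B (AdicCompletion (maximalIdeal B) B)) =
        (algebraMap (B ⧸ (maximalIdeal A).map (algebraMap A B)) _).comp
          (Ideal.Quotient.mk ((maximalIdeal A).map (algebraMap A B))) :=
      RingHom.ext (fun b => ρ_of b)
    rw [h]
  haveI : IsHausdorff (((maximalIdeal B).map
      (algebraMap B (AdicCompletion (maximalIdeal B) B))).map (ρ A B))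
      (AdicCompletion ((maximalIdeal B).map (Ideal.Quotient.mk
        ((maximalIdeal A).map (algebraMap A B)))) (B ⧸ (maximalIdeal A).map (algebraMap A B))) := by
    rw [hmap]
    infer_instance
  refine surjective_of_mk_map_comp_surjective
    (I := (maximalIdeal B).map (algebraMap B (AdicCompletion (maximalIdeal B) B))) (ρ A B) ?_
  intro z
  obtain ⟨y, rfl⟩ := Ideal.Quotient.mk_surjective z
  obtain ⟨f0, hf0⟩ := Ideal.Quotient.mk_surjective (AdicCompletion.evalOneₐ _ y)
  obtain ⟨b, rfl⟩ := Ideal.Quotient.mk_surjective f0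
  refine ⟨algebraMap B (AdicCompletion (maximalIdeal B) B) b, ?_⟩
  show Ideal.Quotient.mk _ (ρ A B (algebraMap B (AdicCompletion (maximalIdeal B) B) b)) =
    Ideal.Quotient.mk _ y
  rw [Ideal.Quotient.eq, hmap, ← AdicCompletion.ker_evalOneₐ_eq_map _ hfgF, RingHom.mem_ker,
    map_sub, ρ_of, sub_eq_zero]
  show AdicCompletion.evalOneₐ _ (AdicCompletion.of _ _ _) = AdicCompletion.evalOneₐ _ y
  rw [AdicCompletion.evalOneₐ_of]
  exact hf0

theorem map_le_jacobson (α : AdicCompletion (maximalIdeal A) A) :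
    (maximalIdeal A).map (algebraMap A
      (MvPowerSeries (Fin 2) (AdicCompletion (maximalIdeal A) A) ⧸ Ideal.span
        {(X 0 * X 1 - C α : MvPowerSeries (Fin 2) (AdicCompletion (maximalIdeal A) A))})) ≤
      Ideal.jacobson ⊥ := by
  intro z hz
  rw [Ideal.mem_jacobson_bot]
  intro w
  have h1 : algebraMap A
      (MvPowerSeries (Fin 2) (AdicCompletion (maximalIdeal A) A) ⧸ Ideal.span
        {(X 0 * X 1 - C α : MvPowerSeries (Fin 2) (AdicCompletion (maximalIdeal A) A))}) =
      (Ideal.Quotient.mk _).comp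
        (algebraMap A (MvPowerSeries (Fin 2) (AdicCompletion (maximalIdeal A) A))) := rfl
  rw [h1, ← Ideal.map_map] at hz
  obtain ⟨z', hz', rfl⟩ := (Ideal.mem_map_iff_of_surjective _ Ideal.Quotient.mk_surjective).mp hz
  obtain ⟨w', rfl⟩ := Ideal.Quotient.mk_surjective w
  have hu : IsUnit (z' * w' + 1) := by
    rw [MvPowerSeries.isUnit_iff_constantCoeff, map_add, map_mul, map_one]
    have hc : constantCoeff z' ∈ maximalIdeal (AdicCompletion (maximalIdeal A) A) := by
      rw [AdicCompletion.maximalIdeal_eq_map]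
      have h2 := Ideal.mem_map_of_mem (constantCoeff :
        MvPowerSeries (Fin 2) (AdicCompletion (maximalIdeal A) A) →+* _) hz'
      rw [Ideal.map_map] at h2
      have h3 : (constantCoeff : MvPowerSeries (Fin 2) (AdicCompletion (maximalIdeal A) A) →+* _).comp
          (algebraMap A (MvPowerSeries (Fin 2) (AdicCompletion (maximalIdeal A) A))) =
          algebraMap A (AdicCompletion (maximalIdeal A) A) := by
        ext a
        simp [MvPowerSeries.algebraMap_apply]
      rw [h3] at h2
      exact h2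
    have hj : maximalIdeal (AdicCompletion (maximalIdeal A) A) ≤ Ideal.jacobson ⊥ := by
      rw [IsLocalRing.jacobson_eq_maximalIdeal ⊥ bot_ne_top]
    exact Ideal.mem_jacobson_bot.mp (hj hc) _
  have h4 := hu.map (Ideal.Quotient.mk (Ideal.span
    {(X 0 * X 1 - C α : MvPowerSeries (Fin 2) (AdicCompletion (maximalIdeal A) A))}))
  rwa [map_add, map_mul, map_one] at h4

theorem ker_le_map (α : AdicCompletion (maximalIdeal A) A)
    (hα : α ∈ (maximalIdeal A).map (algebraMap A (AdicCompletion (maximalIdeal A) A)))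
    (ψ : (MvPowerSeries (Fin 2) (AdicCompletion (maximalIdeal A) A) ⧸ Ideal.span
      {(X 0 * X 1 - C α : MvPowerSeries (Fin 2) (AdicCompletion (maximalIdeal A) A))}) →ₐ[A]
      AdicCompletion (maximalIdeal B) B)
    (hs : Function.Surjective ψ)
    (e : AdicCompletion ((maximalIdeal B).map (Ideal.Quotient.mk
          ((maximalIdeal A).map (algebraMap A B))))
          (B ⧸ (maximalIdeal A).map (algebraMap A B)) ≃+*
        (MvPowerSeries (Fin 2) (ResidueField A) ⧸
          Ideal.span {(X 0 * X 1 : MvPowerSeries (Fin 2) (ResidueField A))}))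
    {s : ℕ} (a : Fin s → A) (ha' : Ideal.span (Set.range a) = maximalIdeal A) :
    RingHom.ker ψ.toRingHom ≤ (maximalIdeal A).map (algebraMap A
      (MvPowerSeries (Fin 2) (AdicCompletion (maximalIdeal A) A) ⧸ Ideal.span
        {(X 0 * X 1 - C α : MvPowerSeries (Fin 2) (AdicCompletion (maximalIdeal A) A))})) := by
  classical
  have hrα : rmap A α = 0 := by
    rw [← RingHom.mem_ker, ker_rmap]
    exact hα
  let π0 : MvPowerSeries (Fin 2) (AdicCompletion (maximalIdeal A) A) →+*
      (MvPowerSeries (Fin 2) (ResidueField A) ⧸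
        Ideal.span {(X 0 * X 1 : MvPowerSeries (Fin 2) (ResidueField A))}) :=
    (Ideal.Quotient.mk _).comp (MvPowerSeries.map (rmap A))
  have hπ0 : π0 (X 0 * X 1 - C α) = 0 := by
    show Ideal.Quotient.mk _ (MvPowerSeries.map (rmap A) (X 0 * X 1 - C α)) = 0
    rw [map_sub, map_mul, map_X, map_X, map_C, hrα, map_zero, sub_zero]
    exact Ideal.Quotient.eq_zero_iff_mem.mpr (Ideal.subset_span rfl)
  let π : (MvPowerSeries (Fin 2) (AdicCompletion (maximalIdeal A) A) ⧸ Ideal.span
      {(X 0 * X 1 - C α : MvPowerSeries (Fin 2) (AdicCompletion (maximalIdeal A) A))}) →+*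
      (MvPowerSeries (Fin 2) (ResidueField A) ⧸
        Ideal.span {(X 0 * X 1 : MvPowerSeries (Fin 2) (ResidueField A))}) :=
    Ideal.Quotient.lift _ π0 (fun z hz => by
      rw [Ideal.mem_span_singleton] at hz
      obtain ⟨w, rfl⟩ := hz
      rw [map_mul, hπ0, zero_mul])
  have hπmk : ∀ p, π (Ideal.Quotient.mk _ p) =
      Ideal.Quotient.mk _ (MvPowerSeries.map (rmap A) p) := fun p => rfl
  have hπsurj : Function.Surjective π := by
    intro z
    obtain ⟨q, rfl⟩ := Ideal.Quotient.mk_surjective z
    obtain ⟨p, rfl⟩ := mvPowerSeries_map_surjective (σ := Fin 2) (rmap A) rmap_surjective q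
    exact ⟨Ideal.Quotient.mk _ p, hπmk p⟩
  have hkerπ : RingHom.ker π ≤ (maximalIdeal A).map (algebraMap A
      (MvPowerSeries (Fin 2) (AdicCompletion (maximalIdeal A) A) ⧸ Ideal.span
        {(X 0 * X 1 - C α : MvPowerSeries (Fin 2) (AdicCompletion (maximalIdeal A) A))})) := by
    intro z hz
    obtain ⟨p, rfl⟩ := Ideal.Quotient.mk_surjective z
    rw [RingHom.mem_ker, hπmk, Ideal.Quotient.eq_zero_iff_mem, Ideal.mem_span_singleton'] at hz
    obtain ⟨g, hg⟩ := hz
    obtain ⟨g', rfl⟩ := mvPowerSeries_map_surjective (σ := Fin 2) (rmap A) rmap_surjective g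
    have hspan : Ideal.span (Set.range (algebraMap A (AdicCompletion (maximalIdeal A) A) ∘ a)) =
        RingHom.ker (rmap A) := by
      rw [ker_rmap, ← ha', Ideal.map_span, Set.range_comp]
    have hp' : ∀ d, coeff d (p - g' * (X 0 * X 1 - C α)) ∈
        Ideal.span (Set.range (algebraMap A (AdicCompletion (maximalIdeal A) A) ∘ a)) := by
      intro d
      have hm : MvPowerSeries.map (rmap A) (p - g' * (X 0 * X 1 - C α)) = 0 := by
        rw [RingHom.map_sub, RingHom.map_mul, RingHom.map_sub, RingHom.map_mul, map_X, map_X,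
          map_C, hrα, RingHom.map_zero, sub_zero, hg, sub_self]
      rw [hspan, RingHom.mem_ker, ← coeff_map, hm, map_zero]
    obtain ⟨k, hk⟩ := Groth.Agent.H8.RegSecPS.exists_sum_C_mul
      (algebraMap A (AdicCompletion (maximalIdeal A) A) ∘ a) _ hp'
    have hz2 : Ideal.Quotient.mk (Ideal.span
        {(X 0 * X 1 - C α : MvPowerSeries (Fin 2) (AdicCompletion (maximalIdeal A) A))}) p =
        Ideal.Quotient.mk _ (p - g' * (X 0 * X 1 - C α)) := by
      rw [Ideal.Quotient.eq]
      have e1 : p - (p - g' * (X 0 * X 1 - C α)) = g' * (X 0 * X 1 - C α) := by ring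
      rw [e1]
      exact Ideal.mul_mem_left _ _ (Ideal.subset_span rfl)
    rw [hz2, hk, map_sum]
    refine Ideal.sum_mem _ (fun j _ => ?_)
    rw [map_mul]
    refine Ideal.mul_mem_right _ _ ?_
    have e2 : Ideal.Quotient.mk (Ideal.span
        {(X 0 * X 1 - C α : MvPowerSeries (Fin 2) (AdicCompletion (maximalIdeal A) A))})
        (C ((algebraMap A (AdicCompletion (maximalIdeal A) A) ∘ a) j)) =
        algebraMap A _ (a j) := by
      show _ = Ideal.Quotient.mk _ (algebraMap A
        (MvPowerSeries (Fin 2) (AdicCompletion (maximalIdeal A) A)) (a j))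
      rw [MvPowerSeries.algebraMap_apply]
      rfl
    rw [e2]
    refine Ideal.mem_map_of_mem _ ?_
    rw [← ha']
    exact Ideal.subset_span ⟨j, rfl⟩
  -- the composite to the nodal fibre
  let χ : (MvPowerSeries (Fin 2) (AdicCompletion (maximalIdeal A) A) ⧸ Ideal.span
      {(X 0 * X 1 - C α : MvPowerSeries (Fin 2) (AdicCompletion (maximalIdeal A) A))}) →+*
      (MvPowerSeries (Fin 2) (ResidueField A) ⧸
        Ideal.span {(X 0 * X 1 : MvPowerSeries (Fin 2) (ResidueField A))}) :=
    e.toRingHom.comp ((ρ A B).comp ψ.toRingHom)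
  have hχ : ∀ z, χ z = e (ρ A B (ψ z)) := fun z => rfl
  have hχsurj : Function.Surjective χ := by
    intro z
    obtain ⟨y1, hy1⟩ := e.surjective z
    obtain ⟨y2, hy2⟩ := ρ_surjective (A := A) (B := B) y1
    obtain ⟨y3, hy3⟩ := hs y2
    exact ⟨y3, by rw [hχ, hy3, hy2, hy1]⟩
  have hmχ : (maximalIdeal A).map (algebraMap A
      (MvPowerSeries (Fin 2) (AdicCompletion (maximalIdeal A) A) ⧸ Ideal.span
        {(X 0 * X 1 - C α : MvPowerSeries (Fin 2) (AdicCompletion (maximalIdeal A) A))})) ≤
      RingHom.ker χ := by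
    rw [Ideal.map_le_iff_le_comap]
    intro c hc
    rw [Ideal.mem_comap, RingHom.mem_ker, hχ, AlgHom.commutes, ρ_algebraMap c hc, map_zero]
  let χbar := RingHom.liftOfSurjective π hπsurj ⟨χ, hkerπ.trans hmχ⟩
  have hχbar : ∀ z, χbar (π z) = χ z := fun z =>
    RingHom.liftOfSurjective_comp_apply π hπsurj ⟨χ, hkerπ.trans hmχ⟩ z
  have hχbarsurj : Function.Surjective χbar := by
    intro z
    obtain ⟨q, rfl⟩ := hχsurj z
    exact ⟨π q, hχbar q⟩
  have hχbarinj := injective_of_surjective_endo χbar hχbarsurj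
  intro z hz
  apply hkerπ
  rw [RingHom.mem_ker]
  apply hχbarinj
  rw [hχbar, hχ, map_zero]
  have hz0 : ψ z = 0 := hz
  rw [hz0, map_zero, map_zero]

/-- **S7925**. -/
theorem main_iso (A B : Type u) [CommRing A] [IsLocalRing A] [IsNoetherianRing A]
    [CommRing B] [IsLocalRing B] [IsNoetherianRing B] [Algebra A B] [IsLocalHom (algebraMap A B)]
    (hres : Function.Bijective (IsLocalRing.ResidueField.map (algebraMap A B)))
    (u v : B) (hu : u ∈ IsLocalRing.maximalIdeal B) (hv : v ∈ IsLocalRing.maximalIdeal B)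
    (huv : u * v ∈ (IsLocalRing.maximalIdeal A).map (algebraMap A B))
    (hgen : IsLocalRing.maximalIdeal B = Ideal.span {u, v} ⊔ (IsLocalRing.maximalIdeal A).map (algebraMap A B)) [Module.Flat A B]
    (hfib : ∃ e : AdicCompletion ((IsLocalRing.maximalIdeal B).map (Ideal.Quotient.mk
          ((IsLocalRing.maximalIdeal A).map (algebraMap A B))))
          (B ⧸ (IsLocalRing.maximalIdeal A).map (algebraMap A B)) ≃+*
        (MvPowerSeries (Fin 2) (IsLocalRing.ResidueField A) ⧸
          Ideal.span {(MvPowerSeries.X 0 * MvPowerSeries.X 1 : MvPowerSeries (Fin 2) (IsLocalRing.ResidueField A))}),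
      ∀ a : A, e (algebraMap (B ⧸ (IsLocalRing.maximalIdeal A).map (algebraMap A B)) _
          (Ideal.Quotient.mk _ (algebraMap A B a))) =
        Ideal.Quotient.mk _ (MvPowerSeries.C (IsLocalRing.residue A a))) :
    ∃ (α : AdicCompletion (IsLocalRing.maximalIdeal A) A)
      (_ : α ∈ (IsLocalRing.maximalIdeal A).map (algebraMap A (AdicCompletion (IsLocalRing.maximalIdeal A) A)))
      (ψ : (MvPowerSeries (Fin 2) (AdicCompletion (IsLocalRing.maximalIdeal A) A) ⧸ Ideal.span
          {(MvPowerSeries.X 0 * MvPowerSeries.X 1 -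
            MvPowerSeries.C α :
              MvPowerSeries (Fin 2) (AdicCompletion (IsLocalRing.maximalIdeal A) A))}) ≃ₐ[A]
        AdicCompletion (IsLocalRing.maximalIdeal B) B),
      ψ (Ideal.Quotient.mk _ (MvPowerSeries.X 0)) -
            algebraMap B (AdicCompletion (IsLocalRing.maximalIdeal B) B) u ∈
          (IsLocalRing.maximalIdeal A).map (algebraMap A (AdicCompletion (IsLocalRing.maximalIdeal B) B)) ∧
        ψ (Ideal.Quotient.mk _ (MvPowerSeries.X 1)) -
            algebraMap B (AdicCompletion (IsLocalRing.maximalIdeal B) B) v ∈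
          (IsLocalRing.maximalIdeal A).map (algebraMap A (AdicCompletion (IsLocalRing.maximalIdeal B) B)) := by
  classical
  obtain ⟨e, -⟩ := hfib
  obtain ⟨x, y, α, hx, hy, hα, hxy⟩ := exists_xy hres.2 huv hgen
  obtain ⟨ψ, hs, h0, h1⟩ := exists_surj u v hres.2 hgen x y α hx hy hxy
  haveI : IsScalarTower A B (AdicCompletion (maximalIdeal B) B) :=
    IsScalarTower.of_algebraMap_eq (fun _ => rfl)
  haveI : Module.Flat A (AdicCompletion (maximalIdeal B) B) :=
    Module.Flat.trans A B (AdicCompletion (maximalIdeal B) B)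
  haveI : IsNoetherianRing (AdicCompletion (maximalIdeal A) A) :=
    Groth.Agent.S0543.result A (maximalIdeal A)
  obtain ⟨s, a, ha⟩ := Submodule.fg_iff_exists_fin_generating_family.mp
    (IsNoetherian.noetherian (maximalIdeal A))
  have ha' : Ideal.span (Set.range a) = maximalIdeal A := ha
  have hK := ker_le_map α hα ψ hs e a ha'
  have hJ := map_le_jacobson (A := A) α
  have hK0 : RingHom.ker ψ.toRingHom = ⊥ := by
    refine Submodule.eq_bot_of_le_smul_of_le_jacobson_bot _ _ (IsNoetherian.noetherian _) ?_ hJ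
    intro z hz
    have h2 := ker_inf_le_mul ψ hs a ⟨hz, by rw [ha']; exact hK hz⟩
    rw [ha'] at h2
    exact h2
  have hinj : Function.Injective ψ := (RingHom.injective_iff_ker_eq_bot ψ.toRingHom).mpr hK0
  refine ⟨α, hα, AlgEquiv.ofBijective ψ ⟨hinj, hs⟩, ?_, ?_⟩
  · show ψ _ - _ ∈ _
    rw [h0]; exact hx
  · show ψ _ - _ ∈ _
    rw [h1]; exact hy

end Groth.Agent.H8.NodeCpl
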